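import Groth.Agent.AntiAffLib.Image
import Groth.Agent.AntiAffLib.BaseChange
import Groth.Agent.AntiAffLib.RigidGrp
import Groth.Agent.AlbLib.AffineHom
import Groth.Agent.ChevThmLib.Chevalley
import Groth.Agent.MonoQuotLib.Orbit
import Groth.Agent.AVAmpleLib.HomRank
import Groth.Agent.AVAmpleLib.BcTate
import Groth.Agent.DenseSubLib.Basic
import Groth.Agent.SemiAbLib.Points
import Groth.Agent.SweepSix.GeomConn
import Groth.Prelude

/-!
# Homomorphisms from anti-affine groups
-/

set_option autoImplicit false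
set_option linter.style.haveILetI false
set_option linter.style.longLine false
set_option backward.isDefEq.respectTransparency false

universe u

open CategoryTheory CategoryTheory.Limits MonoidalCategory CartesianMonoidalCategory AlgebraicGeometry
open scoped MonObj

noncomputable section

namespace HomAntiLib

attribute [-instance] CategoryTheory.Hom.commGroup

section Closed

variable {K : Type u} [Field K] [IsAlgClosed K]

/-- Homomorphisms descend along fppf homomorphisms. -/
theorem isMonHom_of_fppf {A B C : Over (Spec (CommRingCat.of K))} [GrpObj A] [GrpObj B] [GrpObj C] (p : A ⟶ B)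
    [IsMonHom p] [Flat p.left] [LocallyOfFinitePresentation p.left] [Surjective p.left] (d : B ⟶ C)
    [IsMonHom (p ≫ d)] : IsMonHom d := by
  constructor
  · rw [← IsMonHom.one_hom (f := p), Category.assoc, IsMonHom.one_hom (f := p ≫ d)]
  · obtain ⟨h1, h2, h3⟩ := Groth.Agent.MonoQuot.fppf_tensor p p
    haveI := h1; haveI := h2; haveI := h3
    haveI := Groth.Agent.MonoQuot.epi_over (p ⊗ₘ p)
    rw [← cancel_epi (p ⊗ₘ p), ← Category.assoc, ← IsMonHom.mul_hom p, Category.assoc, IsMonHom.mul_hom (p ≫ d),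
      MonoidalCategory.tensorHom_comp_tensorHom_assoc]

/-- A connected group of finite type has a smooth connected subgroup through which all reduced schemes factor. -/
theorem exists_red_grp (H : Over (Spec (CommRingCat.of K))) [GrpObj H] [LocallyOfFiniteType H.hom]
    [QuasiCompact H.hom] [ConnectedSpace H.left] :
    ∃ (H' : Over (Spec (CommRingCat.of K))) (_ : GrpObj H') (r : H' ⟶ H), IsMonHom r ∧ Mono r ∧ Smooth H'.hom ∧
      QuasiCompact H'.hom ∧ ConnectedSpace H'.left ∧
      ∀ {Z : Over (Spec (CommRingCat.of K))} [IsReduced Z.left] (h : Z ⟶ H), ∃ l : Z ⟶ H', l ≫ r = h := by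
  obtain ⟨H', _, r, hrm, hrc, hrs, hr⟩ := DenseSubLib.exists_smooth_subgroup
    (⊤ : Subgroup (𝟙_ (Over (Spec (CommRingCat.of K))) ⟶ H))
  haveI := hrm; haveI := hrc; haveI := hrs
  rw [Subgroup.coe_top, SemiAbLib.closure_pt_univ] at hr
  haveI : Surjective r.left := ⟨Set.range_eq_univ.1 hr⟩
  haveI : QuasiCompact H'.hom := by rw [← Over.w r]; infer_instance
  haveI : ConnectedSpace H'.left :=
    ((r.left.isClosedEmbedding.isEmbedding.toHomeomorphOfSurjective r.left.surjective)).connectedSpace_iff.2 inferInstance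
  haveI : Mono r := Over.mono_of_mono_left r
  refine ⟨H', inferInstance, r, hrm, inferInstance, hrs, inferInstance, inferInstance, fun {Z} _ h => ?_⟩
  obtain ⟨l, hl⟩ := AVAmpleLib.exists_lift_of_reduced r.left h.left (by rw [hr]; exact Set.subset_univ _)
  exact ⟨Over.homMk l (by rw [← Over.w h, ← hl, Category.assoc, Over.w r]), Over.OverMorphism.ext hl⟩

/-- Homomorphisms from an anti-affine group are detected on an abelian variety. -/
theorem exists_av (G H : Over (Spec (CommRingCat.of K))) [GrpObj G] [Smooth G.hom] [QuasiCompact G.hom]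
    [AntiAffLib.IsΓIso (toUnit G)] [GrpObj H] [LocallyOfFiniteType H.hom] [QuasiCompact H.hom]
    [ConnectedSpace H.left] :
    ∃ (A B : Over (Spec (CommRingCat.of K))) (_ : GrpObj A) (_ : IsCommMonObj A) (_ : IsProper A.hom)
      (_ : GeometricallyIntegral A.hom) (_ : GrpObj B) (_ : IsCommMonObj B) (_ : IsProper B.hom)
      (_ : GeometricallyIntegral B.hom) (d : ∀ f : G ⟶ H, IsMonHom f → (A ⟶ B)),
      (∀ f hf, IsMonHom (d f hf)) ∧ (∀ f g hf hg hfg, d (f * g) hfg = d f hf * d g hg) ∧
        ∀ f g hf hg, d f hf = d g hg → f = g := by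
  haveI : ConnectedSpace G.left := AntiAffLib.connectedSpace_of_antiAff G
  haveI : GeometricallyIntegral G.hom := AlbLib.geometricallyIntegral_grp G
  haveI : IsIntegral G.left := GeometricallyIntegral.isIntegral_of_subsingleton G.hom
  obtain ⟨H', _, r, hrm, hrmono, hHs, hHq, hHc, hfac⟩ := exists_red_grp H
  haveI := hrm; haveI := hrmono; haveI := hHs; haveI := hHq; haveI := hHc
  obtain ⟨NG, _, iG, hiG, hmaxG⟩ := ChevThmLib.exists_gAff G
  obtain ⟨A, _, qA, hqAm, hqAf, hqAs, hkA, hAp, hAsm, hAc⟩ := ChevThmLib.exists_chevalley iG hiG hmaxG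
  haveI := hqAm; haveI := hqAf; haveI := hqAs; haveI := hAp; haveI := hAsm; haveI := hAc
  haveI := hiG.hom; haveI := hiG.smooth; haveI := hiG.conn; haveI := hiG.affine
  haveI : GeometricallyIntegral A.hom := AlbLib.geometricallyIntegral_grp A
  haveI : IsCommMonObj A := CubeConsLib.isCommMonObj_field
  obtain ⟨NH, _, iH, hiH, hmaxH⟩ := ChevThmLib.exists_gAff H'
  obtain ⟨B, _, qB, hqBm, -, -, hkB, hBp, hBsm, hBc⟩ := ChevThmLib.exists_chevalley iH hiH hmaxH
  haveI := hqBm; haveI := hBp; haveI := hBsm; haveI := hBc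
  haveI := hiH.affine
  haveI : GeometricallyIntegral B.hom := AlbLib.geometricallyIntegral_grp B
  haveI : IsCommMonObj B := CubeConsLib.isCommMonObj_field
  haveI : LocallyOfFiniteType qA.left := by
    haveI : LocallyOfFiniteType (qA.left ≫ A.hom) := by rw [Over.w qA]; infer_instance
    exact locallyOfFiniteType_of_comp qA.left A.hom
  haveI : IsLocallyNoetherian A.left := LocallyOfFiniteType.isLocallyNoetherian A.hom
  haveI : LocallyOfFinitePresentation qA.left := inferInstance
  haveI : Epi qA := Groth.Agent.MonoQuot.epi_over qA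
  choose lift hlift using fun f : G ⟶ H => hfac f
  have hliftm : ∀ f, IsMonHom f → IsMonHom (lift f) := fun f hf => by
    haveI : IsMonHom (lift f ≫ r) := by rw [hlift]; exact hf
    exact Groth.Agent.DiagRep.isMonHom_of_comp_mono (lift f) r
  have hex : ∀ f : G ⟶ H, IsMonHom f → ∃ y : A ⟶ B, qA ≫ y = lift f ≫ qB := fun f hf =>
    Groth.Agent.MonoQuot.exists_desc_over qA (lift f ≫ qB) fun T a b hab => by
      haveI := hliftm f hf
      obtain ⟨l, hl⟩ := AntiAffLib.exists_lift_kernel hkA (a * b⁻¹) (by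
        rw [MonObj.mul_comp, GrpObj.inv_comp, hab, mul_inv_cancel])
      have h1 : (a * b⁻¹) ≫ lift f ≫ qB = 1 := by
        rw [← hl, Category.assoc, AlbLib.eq_one_of_affine (iG ≫ lift f ≫ qB), MonObj.comp_one]
      rwa [MonObj.mul_comp, GrpObj.inv_comp, mul_inv_eq_one] at h1
  choose d hd using hex
  refine ⟨A, B, inferInstance, inferInstance, inferInstance, inferInstance, inferInstance, inferInstance,
    inferInstance, inferInstance, d, fun f hf => ?_, fun f g hf hg hfg => ?_, fun f g hf hg h => ?_⟩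
  · haveI := hliftm f hf
    haveI : IsMonHom (qA ≫ d f hf) := by rw [hd]; infer_instance
    exact isMonHom_of_fppf qA (d f hf)
  · have e : lift (f * g) = lift f * lift g := by
      rw [← cancel_mono r, hlift, MonObj.mul_comp, hlift, hlift]
    rw [← cancel_epi qA, MonObj.comp_mul, hd, hd, hd, e, MonObj.mul_comp]
  · haveI := hliftm f hf; haveI := hliftm g hg
    obtain ⟨l, hl⟩ := AntiAffLib.exists_lift_kernel hkB (lift f * (lift g)⁻¹) (by
      rw [MonObj.mul_comp, GrpObj.inv_comp, ← hd f hf, ← hd g hg, h, mul_inv_cancel])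
    have h1 : lift f * (lift g)⁻¹ = 1 := by
      conv_lhs => rw [← hl, AntiAffLib.eq_const l η[G], Category.assoc, Category.assoc, hl, MonObj.comp_mul,
        GrpObj.comp_inv, IsMonHom.one_hom, IsMonHom.one_hom, mul_inv_cancel, MonObj.comp_one]
    rw [mul_inv_eq_one] at h1
    rw [← hlift f, h1, hlift g]

end Closed

section Field

variable {k : Type u} [Field k]

/-- Homomorphisms from an anti-affine group into a connected group form a finite free abelian group. -/
theorem finite_torsionFree (G P H : Over (Spec (CommRingCat.of k))) [GrpObj G] [IsCommMonObj G] [Smooth G.hom]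
    [QuasiCompact G.hom] [AntiAffLib.IsΓIso (toUnit G)] [GrpObj P] [IsCommMonObj P] [GrpObj H]
    [LocallyOfFiniteType H.hom] [QuasiCompact H.hom] [ConnectedSpace H.left] (j : P ⟶ H) [IsMonHom j] [Mono j] :
    Module.Finite ℤ (EndAV.Hom G P) ∧ Module.IsTorsionFree ℤ (EndAV.Hom G P) := by
  let K := AlgebraicClosure k
  let F := AVAmpleLib.bcF (k := k) K
  letI : GrpObj (F.obj G) := Functor.grpObjObj
  letI : GrpObj (F.obj H) := Functor.grpObjObj
  haveI : Smooth (F.obj G).hom := inferInstanceAs (Smooth (pullback.snd G.hom _))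
  haveI : QuasiCompact (F.obj G).hom := inferInstanceAs (QuasiCompact (pullback.snd G.hom _))
  haveI : LocallyOfFiniteType (F.obj H).hom := inferInstanceAs (LocallyOfFiniteType (pullback.snd H.hom _))
  haveI : QuasiCompact (F.obj H).hom := inferInstanceAs (QuasiCompact (pullback.snd H.hom _))
  haveI := AntiAffLib.qs_grp G
  haveI := AntiAffLib.nonempty_grp G
  haveI : AntiAffLib.IsΓIso (toUnit (F.obj G)) := (AntiAffLib.antiAff_bc_iff K G).2 inferInstance
  haveI : Nonempty (𝟙_ (Over (Spec (CommRingCat.of k)))).left :=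
    inferInstanceAs (Nonempty (PrimeSpectrum k))
  haveI : GeometricallyConnected (𝟙 (Spec (CommRingCat.of k))) := by
    refine ⟨geometrically_iff_of_commRing_of_isClosedUnderIsomorphisms.mpr fun L _ _ => ?_⟩
    exact (asIso (pullback.snd (𝟙 (Spec (CommRingCat.of k)))
      (Spec.map (CommRingCat.ofHom (algebraMap k L))))).hom.homeomorph.connectedSpace_iff.2
        (inferInstanceAs (ConnectedSpace ↥(Spec (CommRingCat.of L))))
  haveI : GeometricallyConnected H.hom :=
    SweepSix.GeomConn.gc_of_source H.hom (η[H]).left (𝟙 (Spec (CommRingCat.of k))) (Over.w η[H])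
  haveI : ConnectedSpace (F.obj H).left := GeomIrrLib.connectedSpace_bc H.hom K
  obtain ⟨A, B, _, _, _, _, _, _, _, _, d, hdm, hdmul, hinj⟩ := exists_av (F.obj G) (F.obj H)
  have hm : ∀ φ : EndAV.Hom G P, IsMonHom (F.map (φ.toHom ≫ j)) := fun φ => inferInstance
  let ψ : EndAV.Hom G P →+ EndAV.Hom A B := AddMonoidHom.mk'
    (fun φ => haveI := hdm _ (hm φ); EndAV.Hom.of (d (F.map (φ.toHom ≫ j)) (hm φ))) (fun φ φ' => by
      refine EndAV.Hom.ext ?_
      have e : F.map ((φ + φ').toHom ≫ j) = F.map (φ.toHom ≫ j) * F.map (φ'.toHom ≫ j) := by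
        rw [EndAV.Hom.toHom_add, MonObj.mul_comp, Functor.map_mul]
      haveI : IsMonHom (F.map (φ.toHom ≫ j) * F.map (φ'.toHom ≫ j)) := e ▸ hm (φ + φ')
      conv_rhs => rw [EndAV.Hom.toHom_add]
      show d _ (hm (φ + φ')) = d _ (hm φ) * d _ (hm φ')
      rw [← hdmul _ _ (hm φ) (hm φ') inferInstance]
      congr 1)
  have hψ : Function.Injective ψ := fun φ φ' h => EndAV.Hom.ext ((cancel_mono j).1
    (AVAmpleLib.map_injective K (hinj _ _ (hm φ) (hm φ') (congrArg EndAV.Hom.toHom h))))
  haveI := AVAmpleLib.fg_hom A B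
  refine ⟨Module.Finite.of_injective ψ.toIntLinearMap hψ, .of_smul_eq_zero fun m φ h => ?_⟩
  by_contra hne
  push_neg at hne
  have h1 : m • ψ φ = 0 := by rw [← map_zsmul, h, map_zero]
  exact hne.2 (hψ (by rw [AVAmpleLib.smul_eq_zero_hom hne.1 h1, map_zero]))

end Field

end HomAntiLib

end
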